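import Groth.Agent.RegCentLib.Cyclic
import Mathlib

set_option autoImplicit false

noncomputable section

namespace Groth.Agent.RegCentLib

universe u

lemma comm_of_det {B : Type u} [CommRing B] {n : ℕ} (g x y : Matrix (Fin n) (Fin n) B)
    (v : Fin n → B) (h : IsUnit (Matrix.of fun i j : Fin n => (g ^ (j : ℕ)).mulVec v i).det)
    (hx : x * g = g * x) (hy : y * g = g * y) : x * y = y * x := by
  set M := Matrix.of fun i j : Fin n => (g ^ (j : ℕ)).mulVec v i with hM
  set c := M⁻¹.mulVec (x.mulVec v) with hc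
  set p : Matrix (Fin n) (Fin n) B := ∑ i : Fin n, c i • g ^ (i : ℕ) with hp
  have hpv : p.mulVec v = x.mulVec v := by
    have h1 : p.mulVec v = M.mulVec c := by
      funext i
      rw [hp, Matrix.sum_mulVec, Finset.sum_apply]
      show _ = ∑ j, M i j * c j
      refine Finset.sum_congr rfl fun j _ => ?_
      rw [Matrix.smul_mulVec, Pi.smul_apply, smul_eq_mul, mul_comm]
      rfl
    rw [h1, hc, Matrix.mulVec_mulVec, Matrix.mul_nonsing_inv _ h, Matrix.one_mulVec]
  have hpg : ∀ z : Matrix (Fin n) (Fin n) B, z * g = g * z → z * p = p * z := by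
    intro z hz
    have : Commute z g := hz
    rw [hp, Finset.mul_sum, Finset.sum_mul]
    refine Finset.sum_congr rfl fun j _ => ?_
    rw [mul_smul_comm, smul_mul_assoc, (this.pow_right (j : ℕ)).eq]
  have hxp : x = p := by
    have hcols : x * M = p * M := by
      ext i j
      have hx' : Commute x (g ^ (j : ℕ)) := (show Commute x g from hx).pow_right _
      have hp' : Commute g p := (show g * p = p * g from hpg g rfl)
      have e : x.mulVec ((g ^ (j : ℕ)).mulVec v) = p.mulVec ((g ^ (j : ℕ)).mulVec v) := by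
        rw [Matrix.mulVec_mulVec, Matrix.mulVec_mulVec, hx'.eq, ← (hp'.pow_left (j : ℕ)).eq,
          ← Matrix.mulVec_mulVec, ← Matrix.mulVec_mulVec, hpv]
      exact congrFun e i
    calc x = x * M * M⁻¹ := (Matrix.mul_nonsing_inv_cancel_right _ _ h).symm
      _ = p * M * M⁻¹ := by rw [hcols]
      _ = p := Matrix.mul_nonsing_inv_cancel_right _ _ h
  rw [hxp]
  exact (hpg y hy).symm

lemma comm_of_fiberwise (B : Type u) [CommRing B] (n : ℕ) (g x y : Matrix (Fin n) (Fin n) B)
    (hreg : ∀ (K : Type u) [Field K] (φ : B →+* K),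
      Module.finrank K (Subalgebra.centralizer K ({g.map φ} : Set (Matrix (Fin n) (Fin n) K))) = n)
    (hx : x * g = g * x) (hy : y * g = g * y) : x * y = y * x := by
  ext i j
  refine MaximalSpectrum.toPiLocalization_injective B (funext fun P => ?_)
  let L := Localization.AtPrime P.asIdeal
  let ι : B →+* L := algebraMap B L
  let K := IsLocalRing.ResidueField L
  obtain ⟨v, hv⟩ := exists_cyclic _ (hreg K ((IsLocalRing.residue L).comp ι))
  obtain ⟨w, rfl⟩ : ∃ w : Fin n → L, (fun i => IsLocalRing.residue L (w i)) = v :=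
    ⟨fun i => (IsLocalRing.residue_surjective (v i)).choose,
      funext fun i => (IsLocalRing.residue_surjective (v i)).choose_spec⟩
  have hdet : IsUnit (Matrix.of fun i j : Fin n => ((g.map ι) ^ (j : ℕ)).mulVec w i).det := by
    rw [← IsLocalRing.residue_ne_zero_iff_isUnit, RingHom.map_det]
    convert! hv
    ext a b
    show IsLocalRing.residue L (((g.map ι) ^ (b : ℕ)).mulVec w a) = _
    rw [RingHom.map_mulVec, ← Matrix.map_pow, Matrix.map_map]
    show _ = ((g.map ((IsLocalRing.residue L).comp ι)) ^ (b : ℕ)).mulVec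
      (fun i => IsLocalRing.residue L (w i)) a
    rw [← Matrix.map_pow]
    rfl
  have key := comm_of_det (g.map ι) (x.map ι) (y.map ι) w hdet
    (by rw [← Matrix.map_mul, ← Matrix.map_mul, hx]) (by rw [← Matrix.map_mul, ← Matrix.map_mul, hy])
  rw [← Matrix.map_mul, ← Matrix.map_mul] at key
  exact congrFun (congrFun key i) j

end Groth.Agent.RegCentLib
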