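import Mathlib

/-! # An endomorphism with centralizer of minimal dimension has a cyclic vector -/

set_option autoImplicit false

open Polynomial Module

noncomputable section

namespace Groth.Agent.RegCentLib

universe u v

variable {K : Type u} [Field K]

lemma exists_inj_centralizer {W : Type v} [AddCommGroup W] [Module K W] [FiniteDimensional K W]
    (f : Module.End K W) (m : ℕ)
    (h : m ≤ finrank K (Subalgebra.centralizer K ({f} : Set (Module.End K W)))) :
    ∃ β : (Fin m → K) →ₗ[K] Module.End K W, Function.Injective β ∧ ∀ a, f * β a = β a * f := by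
  obtain ⟨u, hu⟩ := exists_linearIndependent_of_le_finrank
    (R := K) (M := Subalgebra.centralizer K ({f} : Set (Module.End K W))) h
  refine ⟨(Subalgebra.val _).toLinearMap.comp (Fintype.linearCombination K u), ?_, fun a => ?_⟩
  · refine Subtype.val_injective.comp ?_
    rw [← LinearMap.ker_eq_bot, LinearMap.ker_eq_bot']
    exact fun a ha => funext (Fintype.linearIndependent_iff.mp hu a ha)
  · exact (Subalgebra.mem_centralizer_iff K).mp (Fintype.linearCombination K u a).2 f rfl

set_option backward.isDefEq.respectTransparency false in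
lemma finrank_centralizer_aux : ∀ (m : ℕ) (V : Type v) [AddCommGroup V] [Module K V]
    [FiniteDimensional K V], finrank K V = m → ∀ g : Module.End K V,
      m ≤ finrank K (Subalgebra.centralizer K ({g} : Set (Module.End K V))) ∧
      (finrank K (Subalgebra.centralizer K ({g} : Set (Module.End K V))) ≤ m →
        ∃ v : V, LinearIndependent K fun i : Fin m => (g ^ (i : ℕ)) v) := by
  intro m
  induction m using Nat.strong_induction_on with
  | _ m ih =>
  intro V _ _ _ hV g
  classical
  rcases Nat.eq_zero_or_pos m with hm | hm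
  · subst hm
    exact ⟨Nat.zero_le _, fun _ => ⟨0, linearIndependent_empty_type⟩⟩
  haveI : Nontrivial V := finrank_pos_iff.mp (hV ▸ hm)
  set μ := minpoly K g with hμ
  have hint : IsIntegral K g := Algebra.IsIntegral.isIntegral g
  have hmon : μ.Monic := minpoly.monic hint
  set d := μ.natDegree with hd
  have hd0 : 0 < d := minpoly.natDegree_pos hint
  have hgμ : aeval g μ = 0 := minpoly.aeval K g
  -- a vector whose annihilator is the minimal polynomial
  obtain ⟨v', hv'⟩ := exists_ker_toSpanSingleton_eq_annihilator K[X] (AEval' g)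
  obtain ⟨v, rfl⟩ := (AEval'.of g).surjective v'
  rw [← span_minpoly_eq_annihilator] at hv'
  have hann : ∀ p : K[X], aeval g p v = 0 → μ ∣ p := by
    intro p hp
    have : p ∈ LinearMap.ker (LinearMap.toSpanSingleton K[X] (AEval' g) (AEval'.of g v)) := by
      rw [LinearMap.mem_ker, LinearMap.toSpanSingleton_apply]
      exact (AEval.of_aeval_smul _ _ _).symm.trans (by rw [Module.End.smul_def, hp, map_zero])
    rw [hv'] at this
    exact Ideal.mem_span_singleton.mp this
  have hpdeg : ∀ p : K[X], (p %ₘ μ).degree < d := fun p =>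
    (degree_modByMonic_lt p hmon).trans_le degree_le_natDegree
  -- evaluation of polynomials only depends on the first `d` powers
  have hexp : ∀ p : K[X], aeval g p = ∑ i : Fin d, (p %ₘ μ).coeff i • g ^ (i : ℕ) := by
    intro p
    rw [← aeval_modByMonic_eq_self_of_root hgμ]
    by_cases h0 : p %ₘ μ = 0
    · simp [h0]
    · rw [aeval_eq_sum_range' (n := d) ((natDegree_lt_iff_degree_lt h0).mpr (hpdeg p)),
        Fin.sum_univ_eq_sum_range (fun i => (p %ₘ μ).coeff i • g ^ i) d]
  let P : (Fin d → K) →ₗ[K] V := Fintype.linearCombination K fun i : Fin d => (g ^ (i : ℕ)) v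
  have hP : ∀ a, P a = ∑ i : Fin d, a i • (g ^ (i : ℕ)) v := fun a => rfl
  have hli : LinearIndependent K fun i : Fin d => (g ^ (i : ℕ)) v := by
    rw [Fintype.linearIndependent_iff]
    intro a ha i
    set p : K[X] := ∑ j : Fin d, monomial (j : ℕ) (a j) with hp
    have hav : aeval g p v = 0 := by
      rw [← ha, hp, map_sum, LinearMap.sum_apply]
      refine Finset.sum_congr rfl fun j _ => ?_
      rw [aeval_monomial, ← Algebra.smul_def, LinearMap.smul_apply]
    have hcoef : p.coeff i = a i := by
      rw [hp, finsetSum_coeff, Finset.sum_eq_single i]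
      · exact coeff_monomial_same _ _
      · intro j _ hj
        exact coeff_monomial_of_ne _ (fun h => hj (Fin.ext h.symm))
      · simp
    have hp0 : p = 0 := by
      by_contra hne
      have h1 := natDegree_le_of_dvd (hann p hav) hne
      have h2 : p.natDegree ≤ d - 1 := natDegree_sum_le_of_forall_le _ _ fun j _ =>
        (natDegree_monomial_le _).trans (by omega)
      omega
    rw [← hcoef, hp0, coeff_zero]
  have hPinj : LinearMap.ker P = ⊥ := by
    rw [LinearMap.ker_eq_bot']
    exact fun a ha => funext (Fintype.linearIndependent_iff.mp hli a ha)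
  obtain ⟨r, hr⟩ := LinearMap.exists_leftInverse_of_injective P hPinj
  let φ : V →ₗ[K] K := (LinearMap.proj (⟨d - 1, by omega⟩ : Fin d)).comp r
  have hφ : ∀ i : Fin d, φ ((g ^ (i : ℕ)) v) = if (i : ℕ) = d - 1 then 1 else 0 := by
    intro i
    have : P (Pi.single i 1) = (g ^ (i : ℕ)) v := by
      rw [hP, Finset.sum_eq_single i] <;> simp +contextual
    rw [← this]
    show r (P _) _ = _
    rw [show r (P (Pi.single i 1)) = Pi.single i 1 from LinearMap.congr_fun hr _, Pi.single_apply]
    simp [Fin.ext_iff, eq_comm]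
  let Ψ : (V →ₗ[K] K) → V →ₗ[K] (Fin d → K) := fun ψ => LinearMap.pi fun i => ψ.comp (g ^ (i : ℕ))
  have hΨ : ∀ ψ u (i : Fin d), Ψ ψ u i = ψ ((g ^ (i : ℕ)) u) := fun _ _ _ => rfl
  have hall : ∀ (ψ χ : V →ₗ[K] K) (x y : V), Ψ ψ x = Ψ χ y → Ψ ψ (g x) = Ψ χ (g y) := by
    intro ψ χ x y h
    funext i
    have hg1 : ∀ w, (g ^ (i : ℕ)) (g w) = aeval g (X ^ ((i : ℕ) + 1) : K[X]) w := fun w => by
      rw [map_pow, aeval_X, pow_succ]; rfl
    simp only [hΨ, hg1, hexp, LinearMap.sum_apply, LinearMap.smul_apply, map_sum, map_smul]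
    refine Finset.sum_congr rfl fun j _ => ?_
    rw [← hΨ ψ x j, ← hΨ χ y j, h]
  have hEinj : Function.Injective ((Ψ φ).comp P) := by
    rw [← LinearMap.ker_eq_bot, LinearMap.ker_eq_bot']
    intro a ha
    by_contra hne
    obtain ⟨e₀, he₀⟩ := Function.ne_iff.mp hne
    let S := Finset.univ.filter fun j : Fin d => a j ≠ 0
    have hS : S.Nonempty := ⟨e₀, by simpa [S] using he₀⟩
    set e := S.max' hS with he
    have hae : a e ≠ 0 := (Finset.mem_filter.mp (S.max'_mem hS)).2
    have := e.isLt
    have h0 := congrFun ha ⟨d - 1 - e, by omega⟩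
    simp only [LinearMap.comp_apply, hΨ, hP, map_sum, map_smul, Pi.zero_apply] at h0
    rw [Finset.sum_eq_single e] at h0
    · have h1 : (g ^ (d - 1 - (e : ℕ))) ((g ^ (e : ℕ)) v) = (g ^ (d - 1)) v := by
        rw [← Module.End.mul_apply, ← pow_add, Nat.sub_add_cancel (by omega)]
      have h2 : φ ((g ^ (d - 1)) v) = 1 := by simpa using hφ ⟨d - 1, by omega⟩
      rw [h1, h2, smul_eq_mul, mul_one] at h0
      exact hae h0
    · intro j _ hj
      by_cases haj : a j = 0
      · simp [haj]
      · have hje : j < e := lt_of_le_of_ne (S.le_max' j (by simpa [S] using haj)) hj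
        have hje' : (j : ℕ) < e := hje
        have h1 : (g ^ (d - 1 - (e : ℕ))) ((g ^ (j : ℕ)) v) = (g ^ (d - 1 - e + j)) v := by
          rw [← Module.End.mul_apply, ← pow_add]
        have h2 := hφ ⟨d - 1 - e + j, by omega⟩
        simp only [if_neg (show ¬ (d - 1 - (e : ℕ) + j = d - 1) by omega)] at h2
        rw [h1, h2, smul_zero]
    · simp
  let E : (Fin d → K) ≃ₗ[K] (Fin d → K) :=
    LinearEquiv.ofInjectiveEndo ((Ψ φ).comp P) hEinj
  let θ : (V →ₗ[K] K) → Module.End K V := fun ψ => P.comp (E.symm.toLinearMap.comp (Ψ ψ))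
  have hθ : ∀ ψ u, Ψ φ (θ ψ u) = Ψ ψ u := fun ψ u => E.apply_symm_apply (Ψ ψ u)
  have hW : ∀ x ∈ LinearMap.range P, ∀ y ∈ LinearMap.range P, Ψ φ x = Ψ φ y → x = y := by
    rintro _ ⟨a, rfl⟩ _ ⟨b, rfl⟩ h
    rw [hEinj h]
  have hgW : ∀ x ∈ LinearMap.range P, g x ∈ LinearMap.range P := by
    rintro _ ⟨a, rfl⟩
    rw [hP, map_sum]
    refine Submodule.sum_mem _ fun j _ => ?_
    rw [map_smul]
    refine Submodule.smul_mem _ _ ?_
    have hg1 : g ((g ^ (j : ℕ)) v) = aeval g (X ^ ((j : ℕ) + 1) : K[X]) v := by
      rw [map_pow, aeval_X, pow_succ']; rfl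
    rw [hg1, hexp, LinearMap.sum_apply]
    exact ⟨fun i => (X ^ ((j : ℕ) + 1) %ₘ μ).coeff i, by simp [hP]⟩
  have hθg : ∀ ψ u, θ ψ (g u) = g (θ ψ u) := fun ψ u =>
    hW _ ⟨_, rfl⟩ _ (hgW _ ⟨_, rfl⟩) ((hθ ψ (g u)).trans (hall φ ψ _ u (hθ ψ u)).symm)
  set p1 := θ φ with hp1
  have hp1W : ∀ x ∈ LinearMap.range P, p1 x = x := fun x hx => hW _ ⟨_, rfl⟩ _ hx (hθ φ x)
  set W' := LinearMap.ker (Ψ φ) with hW'
  have hrn := (Ψ φ).finrank_range_add_finrank_ker
  have hsurj : LinearMap.range (Ψ φ) = ⊤ := by
    rw [LinearMap.range_eq_top]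
    exact fun c => ⟨P (E.symm c), E.apply_symm_apply c⟩
  rw [hsurj, finrank_top, finrank_fin_fun, hV] at hrn
  have hW'g : ∀ x ∈ W', g x ∈ W' := by
    intro x hx
    rw [hW', LinearMap.mem_ker] at hx ⊢
    exact (hall φ φ x 0 (by rw [hx, map_zero])).trans (by rw [map_zero, map_zero])
  have hW'0 : ∀ x ∈ W', p1 x = 0 := fun x hx =>
    hW _ ⟨_, rfl⟩ _ (zero_mem _)
      (((hθ φ x).trans (LinearMap.mem_ker.mp hx)).trans (map_zero _).symm)
  let p2 : V →ₗ[K] W' := (LinearMap.id - p1).codRestrict W' fun u => by
    rw [hW', LinearMap.mem_ker, LinearMap.sub_apply, LinearMap.id_apply, map_sub, hθ, sub_self]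
  have hp2 : ∀ u, (p2 u : V) = u - p1 u := fun _ => rfl
  let g' : Module.End K W' := g.restrict hW'g
  have hp2g : ∀ u, p2 (g u) = g' (p2 u) := fun u => Subtype.ext (by
    show (g u - p1 (g u)) = g (u - p1 u)
    rw [map_sub, hp1, hθg])
  have hrn' : d + finrank K W' = m := hrn
  have hsub := ih (finrank K W') (by omega) W' rfl g'
  by_cases hdm : finrank K W' = 0
  · refine ⟨?_, fun _ => ?_⟩
    · let T : (Fin d → K) →ₗ[K] Subalgebra.centralizer K ({g} : Set (Module.End K V)) :=
        { toFun := fun a => ⟨∑ i : Fin d, a i • g ^ (i : ℕ), Subalgebra.mem_centralizer_iff K |>.mpr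
            fun x hx => by
              rw [Set.mem_singleton_iff.mp hx, Finset.mul_sum, Finset.sum_mul]
              refine Finset.sum_congr rfl fun i _ => ?_
              rw [mul_smul_comm, smul_mul_assoc, ← pow_succ', ← pow_succ]⟩
          map_add' := fun a b => Subtype.ext (by simp [add_smul, Finset.sum_add_distrib])
          map_smul' := fun c a => Subtype.ext (by simp [mul_smul, Finset.smul_sum]) }
      have hT : Function.Injective T := by
        intro a b h
        apply hEinj
        show Ψ φ (P a) = Ψ φ (P b)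
        have := congrArg (fun f : Module.End K V => f v) (congrArg Subtype.val h)
        simp only [T, LinearMap.coe_mk, AddHom.coe_mk, LinearMap.sum_apply, LinearMap.smul_apply] at this
        rw [hP, hP, this]
      have := LinearMap.finrank_le_finrank_of_injective hT
      rw [finrank_fin_fun] at this
      omega
    · have hdm' : d = m := by omega
      exact ⟨v, hdm' ▸ hli⟩
  · obtain ⟨w0, hw0⟩ : ∃ w : W', w ≠ 0 := by
      haveI : Nontrivial W' := finrank_pos_iff.mp (Nat.pos_of_ne_zero hdm)
      exact exists_ne 0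
    obtain ⟨ψ, hψ⟩ : ∃ ψ : V →ₗ[K] K, ψ (w0 : V) ≠ 0 := by
      by_contra! h
      exact hw0 (Subtype.ext ((Module.forall_dual_apply_eq_zero_iff K (w0 : V)).mp h))
    obtain ⟨β, hβi, hβc⟩ := exists_inj_centralizer g' (finrank K W') hsub.1
    let T : (Fin d → K) × (Fin (finrank K W') → K) × K →ₗ[K] Module.End K V :=
      { toFun := fun t => (∑ i : Fin d, t.1 i • g ^ (i : ℕ)).comp p1 +
          (W'.subtype.comp (β t.2.1)).comp p2 +
            t.2.2 • (θ ψ).comp (W'.subtype.comp p2)
        map_add' := fun a b => by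
          ext u; simp [add_smul, Finset.sum_add_distrib]; abel
        map_smul' := fun c a => by
          ext u; simp [mul_smul, Finset.smul_sum, smul_add] }
    have hTmem : ∀ t, T t ∈ Subalgebra.centralizer K ({g} : Set (Module.End K V)) := by
      intro t
      rw [Subalgebra.mem_centralizer_iff]
      intro x hx
      rw [Set.mem_singleton_iff.mp hx]
      ext u
      have hb : g' ((β t.2.1) (p2 u)) = (β t.2.1) (g' (p2 u)) :=
        LinearMap.congr_fun (hβc t.2.1) (p2 u)
      have hb' : g ((β t.2.1) (p2 u) : V) = ((β t.2.1) (g' (p2 u)) : V) :=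
        congrArg Subtype.val hb
      have hpow : ∀ (i : ℕ) (w : V), g ((g ^ i) w) = (g ^ i) (g w) := fun i w => by
        rw [← Module.End.mul_apply, ← pow_succ', pow_succ]; rfl
      have hpg : g ((p2 u : V)) = (g' (p2 u) : V) := rfl
      simp only [T, LinearMap.coe_mk, AddHom.coe_mk, Module.End.mul_apply, LinearMap.add_apply,
        LinearMap.comp_apply, LinearMap.smul_apply, LinearMap.sum_apply, Submodule.subtype_apply,
        map_add, map_sum, map_smul, hp1, hθg, hp2g, hpow, hb']
      rw [← hθg ψ, hpg]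
    let T' := T.codRestrict (Subalgebra.toSubmodule (Subalgebra.centralizer K ({g} : Set _))) hTmem
    have hT : Function.Injective T' := by
      suffices hTi : Function.Injective T from fun a b h => hTi (congrArg Subtype.val h)
      refine (injective_iff_map_eq_zero T).mpr ?_
      intro t ht'
      have hvW : v ∈ LinearMap.range P := ⟨Pi.single ⟨0, hd0⟩ 1, by
        rw [hP, Finset.sum_eq_single ⟨0, hd0⟩] <;> simp +contextual⟩
      have hp2v : p2 v = 0 := Subtype.ext (by rw [hp2, hp1W v hvW, sub_self]; rfl)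
      have h1 := LinearMap.congr_fun ht' v
      simp only [T, LinearMap.coe_mk, AddHom.coe_mk, LinearMap.add_apply, LinearMap.comp_apply,
        LinearMap.smul_apply, LinearMap.sum_apply, hp1W v hvW, hp2v, map_zero, smul_zero, add_zero,
        LinearMap.zero_apply] at h1
      have ha : t.1 = 0 := funext (Fintype.linearIndependent_iff.mp hli _ h1)
      have h2 : ∀ w : W', ((β t.2.1) w : V) + t.2.2 • θ ψ (w : V) = 0 := by
        intro w
        have hp2w : p2 (w : V) = w := Subtype.ext (by rw [hp2, hW'0 _ w.2, sub_zero])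
        have := LinearMap.congr_fun ht' (w : V)
        simp only [T, LinearMap.coe_mk, AddHom.coe_mk, LinearMap.add_apply, LinearMap.comp_apply,
          LinearMap.smul_apply, hW'0 _ w.2, hp2w, map_zero, zero_add, LinearMap.zero_apply,
          Submodule.subtype_apply] at this
        exact this
      have hs : t.2.2 = 0 := by
        have := congrFun (congrArg (Ψ φ) (h2 w0)) ⟨0, hd0⟩
        rw [map_add, map_smul, map_zero, LinearMap.mem_ker.mp ((β t.2.1) w0).2,
          zero_add, hθ] at this
        simpa [hΨ, hψ] using this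
      refine Prod.ext ha (Prod.ext (hβi ?_) hs)
      rw [Prod.snd_zero, Prod.fst_zero, map_zero]
      refine LinearMap.ext fun w => Subtype.ext ?_
      have := h2 w
      rwa [hs, zero_smul, add_zero] at this
    have hcount := LinearMap.finrank_le_finrank_of_injective hT
    rw [Module.finrank_prod, Module.finrank_prod, finrank_fin_fun, finrank_fin_fun,
      Module.finrank_self] at hcount
    have hcount' : d + (finrank K W' + 1) ≤
        finrank K (Subalgebra.centralizer K ({g} : Set (Module.End K V))) := hcount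
    exact ⟨by omega, fun h => absurd h (by omega)⟩

lemma exists_cyclic {n : ℕ} (g : Matrix (Fin n) (Fin n) K)
    (h : finrank K (Subalgebra.centralizer K ({g} : Set (Matrix (Fin n) (Fin n) K))) = n) :
    ∃ v : Fin n → K, (Matrix.of fun i j : Fin n => (g ^ (j : ℕ)).mulVec v i).det ≠ 0 := by
  let e := Matrix.toLinAlgEquiv' (R := K) (n := Fin n)
  have hmap : (Subalgebra.centralizer K ({g} : Set (Matrix (Fin n) (Fin n) K))).map e.toAlgHom =
      Subalgebra.centralizer K ({e g} : Set (Module.End K (Fin n → K))) := by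
    ext f
    simp only [Subalgebra.mem_map, Subalgebra.mem_centralizer_iff, Set.mem_singleton_iff, forall_eq]
    constructor
    · rintro ⟨x, hx, rfl⟩
      show e g * e x = e x * e g
      rw [← map_mul, hx, map_mul]
    · intro hf
      refine ⟨e.symm f, e.injective ?_, e.apply_symm_apply f⟩
      rw [map_mul, map_mul, e.apply_symm_apply]
      exact hf
  have h1 : finrank K (Subalgebra.centralizer K ({e g} : Set (Module.End K (Fin n → K)))) = n := by
    have he := ((Subalgebra.centralizer K ({g} : Set (Matrix (Fin n) (Fin n) K))).equivMapOfInjective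
      e.toAlgHom e.injective).toLinearEquiv.finrank_eq
    rw [hmap] at he
    exact he.symm.trans h
  obtain ⟨v, hv⟩ := (finrank_centralizer_aux n (Fin n → K) (finrank_fin_fun K) (e g)).2 h1.le
  refine ⟨v, ?_⟩
  have hli : LinearIndependent K (Matrix.of fun i j : Fin n => (g ^ (j : ℕ)).mulVec v i).col := by
    have : (Matrix.of fun i j : Fin n => (g ^ (j : ℕ)).mulVec v i).col =
        fun i : Fin n => ((e g) ^ (i : ℕ)) v := by
      funext i
      rw [← map_pow]
      rfl
    rw [this]
    exact hv
  exact ((Matrix.isUnit_iff_isUnit_det _).mp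
    (Matrix.linearIndependent_cols_iff_isUnit.mp hli)).ne_zero

end Groth.Agent.RegCentLib
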