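import Groth.Agent.RegCentLib.Cyclic
import Mathlib

/-! # The centralizer scheme of a fiberwise regular matrix is a retract of affine space -/

set_option autoImplicit false

noncomputable section

namespace Groth.Agent.RegCentLib

universe u

variable {n : ℕ}

/-- the matrix with columns `g ^ j v` -/
def cyc {B : Type u} [CommRing B] (g : Matrix (Fin n) (Fin n) B) (v : Fin n → B) :
    Matrix (Fin n) (Fin n) B :=
  Matrix.of fun i j : Fin n => (g ^ (j : ℕ)).mulVec v i

/-- `det (cyc g v)` times the interpolating polynomial in `g` -/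
def proj {B : Type u} [CommRing B] (g : Matrix (Fin n) (Fin n) B) (v : Fin n → B)
    (x : Matrix (Fin n) (Fin n) B) : Matrix (Fin n) (Fin n) B :=
  (cyc g v).det • ∑ i : Fin n, ((cyc g v).adjugate.mulVec (x.mulVec v)) i • g ^ (i : ℕ)

lemma proj_comm {B : Type u} [CommRing B] (g : Matrix (Fin n) (Fin n) B) (v : Fin n → B)
    (x : Matrix (Fin n) (Fin n) B) : proj g v x * g = g * proj g v x := by
  simp only [proj, smul_mul_assoc, mul_smul_comm, Finset.sum_mul, Finset.mul_sum, ← pow_succ,
    ← pow_succ']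

lemma proj_of_comm {B : Type u} [CommRing B] (g : Matrix (Fin n) (Fin n) B) (v : Fin n → B)
    (x : Matrix (Fin n) (Fin n) B) (hx : x * g = g * x) :
    proj g v x = (cyc g v).det ^ 2 • x := by
  set M := cyc g v with hM
  set D := M.det
  set p : Matrix (Fin n) (Fin n) B := ∑ i : Fin n, (M.adjugate.mulVec (x.mulVec v)) i • g ^ (i : ℕ)
    with hp
  have hpv : p.mulVec v = (D • x).mulVec v := by
    have h1 : p.mulVec v = M.mulVec (M.adjugate.mulVec (x.mulVec v)) := by
      funext i
      rw [hp, Matrix.sum_mulVec, Finset.sum_apply]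
      show _ = ∑ j, M i j * (M.adjugate.mulVec (x.mulVec v)) j
      refine Finset.sum_congr rfl fun j _ => ?_
      rw [Matrix.smul_mulVec, Pi.smul_apply, smul_eq_mul, mul_comm]
      rfl
    rw [h1, Matrix.mulVec_mulVec, Matrix.mul_adjugate, Matrix.smul_mulVec, Matrix.one_mulVec,
      Matrix.smul_mulVec]
  have hp' : Commute g p := by
    rw [hp]
    exact Commute.sum_right _ _ _ fun j _ => ((Commute.refl g).pow_right _).smul_right _
  have hx' : Commute g (D • x) := (show Commute g x from hx.symm).smul_right _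
  have hcols : p * M = (D • x) * M := by
    ext i j
    have e : p.mulVec ((g ^ (j : ℕ)).mulVec v) = (D • x).mulVec ((g ^ (j : ℕ)).mulVec v) := by
      rw [Matrix.mulVec_mulVec, Matrix.mulVec_mulVec, ← (hp'.pow_left (j : ℕ)).eq,
        ← (hx'.pow_left (j : ℕ)).eq, ← Matrix.mulVec_mulVec, ← Matrix.mulVec_mulVec, hpv]
    exact congrFun e i
  have := congrArg (· * M.adjugate) hcols
  simp only [mul_assoc, Matrix.mul_adjugate, mul_smul_comm, mul_one, smul_smul] at this
  show D • p = D ^ 2 • x
  rw [pow_two, this]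

lemma proj_map {B C : Type u} [CommRing B] [CommRing C] (f : B →+* C)
    (g : Matrix (Fin n) (Fin n) B) (v : Fin n → B) (x : Matrix (Fin n) (Fin n) B) :
    (proj g v x).map f = proj (g.map f) (f ∘ v) (x.map f) := by
  have hc : cyc (g.map f) (f ∘ v) = (cyc g v).map f := by
    ext i j
    show ((g.map f) ^ (j : ℕ)).mulVec (f ∘ v) i = f ((g ^ (j : ℕ)).mulVec v i)
    rw [RingHom.map_mulVec, ← Matrix.map_pow]
  have hadj : ((cyc g v).map f).adjugate = (cyc g v).adjugate.map f :=
    (RingHom.map_adjugate f (cyc g v)).symm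
  have hdet : ((cyc g v).map f).det = f (cyc g v).det := (RingHom.map_det f _).symm
  have hmv : ∀ i, f ((cyc g v).adjugate.mulVec (x.mulVec v) i) =
      ((cyc g v).adjugate.map f).mulVec ((x.map f).mulVec (f ∘ v)) i := by
    intro i
    rw [RingHom.map_mulVec]
    have e : f ∘ x.mulVec v = (x.map f).mulVec (f ∘ v) := funext fun j => RingHom.map_mulVec f x v j
    rw [← e]
  ext a b
  simp only [proj, hc, hadj, hdet, Matrix.map_apply, Matrix.smul_apply, smul_eq_mul,
    Matrix.sum_apply, map_mul, map_sum, hmv, ← Matrix.map_pow]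

variable (A : Type u) [CommRing A] (g : Matrix (Fin n) (Fin n) A)

lemma exists_weights
    (hreg : ∀ (K : Type u) [Field K] (φ : A →+* K),
      Module.finrank K (Subalgebra.centralizer K ({g.map φ} : Set (Matrix (Fin n) (Fin n) K))) = n) :
    ∃ c : (Fin n → A) →₀ A, c.sum (fun v a => a * (cyc g v).det ^ 2) = 1 := by
  have htop : Ideal.span (Set.range fun v : Fin n → A => (cyc g v).det ^ 2) = ⊤ := by
    by_contra hne
    obtain ⟨P, hP, hle⟩ := Ideal.exists_le_maximal _ hne
    letI := Ideal.Quotient.field P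
    obtain ⟨w, hw⟩ := exists_cyclic _ (hreg (A ⧸ P) (Ideal.Quotient.mk P))
    obtain ⟨v, rfl⟩ : ∃ v : Fin n → A, (fun i => Ideal.Quotient.mk P (v i)) = w :=
      ⟨fun i => (Ideal.Quotient.mk_surjective (w i)).choose,
        funext fun i => (Ideal.Quotient.mk_surjective (w i)).choose_spec⟩
    apply hw
    have hmem : (cyc g v).det ∈ P :=
      hP.isPrime.mem_of_pow_mem 2 (hle (Ideal.subset_span ⟨v, rfl⟩))
    rw [← Ideal.Quotient.eq_zero_iff_mem, RingHom.map_det] at hmem
    convert! hmem using 2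
    ext a b
    show ((g.map (Ideal.Quotient.mk P)) ^ (b : ℕ)).mulVec _ a = Ideal.Quotient.mk P ((g ^ (b : ℕ)).mulVec v a)
    rw [RingHom.map_mulVec, ← Matrix.map_pow]
    rfl
  obtain ⟨c, hc⟩ := Finsupp.mem_span_range_iff_exists_finsupp.mp
    (htop ▸ Submodule.mem_top : (1 : A) ∈ Ideal.span (Set.range fun v : Fin n → A => (cyc g v).det ^ 2))
  exact ⟨c, hc⟩

variable (c : (Fin n → A) →₀ A)

/-- weighted average of the local projections, over any `A`-ring -/
def avg {B : Type u} [CommRing B] (ι : A →+* B) (x : Matrix (Fin n) (Fin n) B) :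
    Matrix (Fin n) (Fin n) B :=
  ∑ v ∈ c.support, ι (c v) • proj (g.map ι) (ι ∘ v) x

lemma avg_comm {B : Type u} [CommRing B] (ι : A →+* B) (x : Matrix (Fin n) (Fin n) B) :
    avg A g c ι x * g.map ι = g.map ι * avg A g c ι x := by
  rw [avg, Finset.sum_mul, Finset.mul_sum]
  refine Finset.sum_congr rfl fun v _ => ?_
  rw [smul_mul_assoc, mul_smul_comm, proj_comm]

lemma avg_map {B B' : Type u} [CommRing B] [CommRing B'] (ι : A →+* B) (f : B →+* B')
    (x : Matrix (Fin n) (Fin n) B) : (avg A g c ι x).map f = avg A g c (f.comp ι) (x.map f) := by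
  ext i j
  simp only [avg, Matrix.map_apply, Matrix.sum_apply, Matrix.smul_apply, smul_eq_mul, map_sum,
    map_mul, RingHom.comp_apply]
  refine Finset.sum_congr rfl fun v _ => ?_
  congr 1
  have h := congrFun (congrFun (proj_map f (g.map ι) (ι ∘ v) x) i) j
  rw [Matrix.map_map] at h
  exact h

lemma avg_of_comm {B : Type u} [CommRing B] (ι : A →+* B)
    (hc : c.sum (fun v a => a * (cyc g v).det ^ 2) = 1) (x : Matrix (Fin n) (Fin n) B)
    (hx : x * g.map ι = g.map ι * x) : avg A g c ι x = x := by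
  have hdet : ∀ v : Fin n → A, (cyc (g.map ι) (ι ∘ v)).det = ι ((cyc g v).det) := fun v => by
    rw [RingHom.map_det]
    congr 1
    refine Matrix.ext fun a b => ?_
    show ((g.map ι) ^ (b : ℕ)).mulVec (ι ∘ v) a = ι ((g ^ (b : ℕ)).mulVec v a)
    rw [RingHom.map_mulVec, ← Matrix.map_pow]
  calc avg A g c ι x = ∑ v ∈ c.support, ι (c v * (cyc g v).det ^ 2) • x := by
        refine Finset.sum_congr rfl fun v _ => ?_
        rw [proj_of_comm _ _ _ hx, hdet, smul_smul, map_mul, map_pow]
    _ = ι (∑ v ∈ c.support, c v * (cyc g v).det ^ 2) • x := by rw [map_sum, Finset.sum_smul]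
    _ = x := by
        rw [show (∑ v ∈ c.support, c v * (cyc g v).det ^ 2) = 1 from hc, map_one, one_smul]

open MvPolynomial in
theorem flat_centralizer_quotient
    (hreg : ∀ (K : Type u) [Field K] (φ : A →+* K),
      Module.finrank K (Subalgebra.centralizer K ({g.map φ} : Set (Matrix (Fin n) (Fin n) K))) = n) :
    Module.Flat A (MvPolynomial (Fin n × Fin n) A ⧸ Ideal.span (Set.range fun ij : Fin n × Fin n =>
      (Matrix.mvPolynomialX (Fin n) (Fin n) A * g.map C -
        g.map C * Matrix.mvPolynomialX (Fin n) (Fin n) A :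
          Matrix (Fin n) (Fin n) (MvPolynomial (Fin n × Fin n) A)) ij.1 ij.2)) := by
  obtain ⟨c, hc⟩ := exists_weights A g hreg
  generalize hX₀ : Matrix.mvPolynomialX (Fin n) (Fin n) A = X₀
  have hX : ∀ i j, X₀ i j = X (i, j) := fun i j => by rw [← hX₀]; rfl
  generalize hI : Ideal.span (Set.range fun ij : Fin n × Fin n =>
      (X₀ * g.map C - g.map C * X₀ :
        Matrix (Fin n) (Fin n) (MvPolynomial (Fin n × Fin n) A)) ij.1 ij.2) = I
  generalize hP : avg A g c (C : A →+* MvPolynomial (Fin n × Fin n) A) X₀ = P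
  obtain ⟨φ, hφ⟩ : ∃ φ : MvPolynomial (Fin n × Fin n) A →ₐ[A] MvPolynomial (Fin n × Fin n) A,
      ∀ ij, φ (X ij) = P ij.1 ij.2 :=
    ⟨aeval fun ij => P ij.1 ij.2, fun ij => aeval_X _ ij⟩
  have hφC : φ.toRingHom.comp C = C := RingHom.ext fun a => φ.commutes a
  have hφX : X₀.map φ.toRingHom = P := Matrix.ext fun i j => by
    rw [Matrix.map_apply, hX]
    exact hφ (i, j)
  have hPc : P * g.map C = g.map C * P := by rw [← hP]; exact avg_comm A g c _ X₀
  have hkill : ∀ a ∈ I, φ a = 0 := by
    intro a ha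
    have hle : I ≤ RingHom.ker φ.toRingHom := by
      rw [← hI, Ideal.span_le]
      rintro _ ⟨⟨i, j⟩, rfl⟩
      have : (X₀ * g.map C - g.map C * X₀).map φ.toRingHom = 0 := by
        rw [Matrix.map_sub _ (map_sub φ.toRingHom), Matrix.map_mul, Matrix.map_mul, Matrix.map_map,
          ← RingHom.coe_comp, hφC, hφX, hPc, sub_self]
      exact congrFun (congrFun this i) j
    exact hle ha
  let q := Ideal.Quotient.mkₐ A I
  have hq : X₀.map q.toRingHom * g.map (q.toRingHom.comp C) =
      g.map (q.toRingHom.comp C) * X₀.map q.toRingHom := by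
    rw [RingHom.coe_comp, ← Matrix.map_map, ← Matrix.map_mul, ← Matrix.map_mul]
    refine Matrix.ext fun i j => ?_
    rw [Matrix.map_apply, Matrix.map_apply, ← sub_eq_zero, ← map_sub]
    refine Ideal.Quotient.eq_zero_iff_mem.mpr ?_
    rw [← hI]
    exact Ideal.subset_span ⟨(i, j), rfl⟩
  have hqP : P.map q.toRingHom = X₀.map q.toRingHom := by
    rw [← hP, avg_map]
    exact avg_of_comm A g c _ hc _ hq
  have hqφ : q.comp φ = q := MvPolynomial.algHom_ext fun ij => by
    have h1 := congrFun (congrFun hqP ij.1) ij.2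
    rw [Matrix.map_apply, Matrix.map_apply, hX] at h1
    show q (φ (X ij)) = q (X ij)
    rw [hφ]
    exact h1
  exact Module.Flat.of_retract (Ideal.Quotient.liftₐ I φ hkill).toLinearMap q.toLinearMap
    (LinearMap.ext fun a => by
      obtain ⟨b, rfl⟩ := Ideal.Quotient.mk_surjective a
      exact AlgHom.congr_fun hqφ b)

end Groth.Agent.RegCentLib
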